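import Cfsg.Agent.H891.Gen.Defs
import Cfsg.Agent.H136.TwoGen
import Cfsg.Agent.ClassicalGeometry.AutPSL.Main
import Cfsg.Agent.LieRecognition.FieldSemilinear

/-!
# TEAM GEN E: groups between `PSL₂(q)` and `PΓL₂(q)` are 2-generated (helper791)

* `lift_pair`: every pair `(lift (cj A), lift (cj B * fld σ))` of `Aut PSL₂(F)` lifts;
* `twoGen_sub`: every subgroup of `Aut PSL₂(F)` containing `Inn` is 2-generated;
* `twoGen_of_aut`: transport from `Aut L` to groups `G` with normal subgroup `T ≅ L`, `C_G(T) = 1`;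
* `psl2_row`: the field `ASRows.psl2`.
-/

set_option autoImplicit false

namespace Cfsg.Agent.H791.Gen

open Matrix Subgroup
open Cfsg.Agent.ClassicalGeometry.AutPSL.Root
open Cfsg.Agent.ClassicalGeometry.AutPSL.Auto
open Cfsg.Agent.ClassicalGeometry.AutPSL.Main
open Cfsg.Agent.H891.Gen Cfsg.Agent.H440.TwoGen

universe u v w

/-! ### transport -/

section transport

variable {G : Type u} [Group G] {L : Type v} [Group L]

/-- a group with a normal subgroup `T ≅ L`, `C_G(T) = 1`, is a group between `Inn L` and `Aut L` -/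
theorem exists_aut (T : Subgroup G) [hT : T.Normal] (hc : centralizer (T : Set G) = ⊥) (e : ↥T ≃* L) :
    ∃ (S : Subgroup (MulAut L)), (MulAut.conj : L →* MulAut L).range ≤ S ∧ Nonempty (G ≃* ↥S) := by
  let φ : G →* MulAut L := (MulAut.congr e).toMonoidHom.comp (MulAut.conjNormal (H := T))
  have hφ : ∀ (g : G) (x : L), φ g x = e (MulAut.conjNormal g (e.symm x)) := fun _ _ => rfl
  have hinj : Function.Injective φ := by
    rw [injective_iff_map_eq_one]
    intro g hg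
    have h1 : g ∈ centralizer (T : Set G) := by
      rw [mem_centralizer_iff]
      intro x hx
      have h2 := DFunLike.congr_fun hg (e ⟨x, hx⟩)
      rw [hφ, e.symm_apply_apply, MulAut.one_apply] at h2
      have h3 := congrArg Subtype.val (e.injective h2)
      rw [MulAut.conjNormal_apply] at h3
      exact (mul_inv_eq_iff_eq_mul.1 h3).symm
    rwa [hc, mem_bot] at h1
  refine ⟨φ.range, ?_, ⟨MonoidHom.ofInjective hinj⟩⟩
  rintro _ ⟨x, rfl⟩
  refine ⟨(e.symm x : ↥T), ?_⟩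
  ext y
  rw [hφ]
  have h1 : MulAut.conjNormal ((e.symm x : ↥T) : G) (e.symm y) = e.symm x * e.symm y * (e.symm x)⁻¹ := by
    apply Subtype.ext
    rw [MulAut.conjNormal_apply]
    rfl
  rw [h1]
  simp

theorem twoGen_of_aut (T : Subgroup G) [hT : T.Normal] (hc : centralizer (T : Set G) = ⊥) (e : ↥T ≃* L)
    (h : ∀ S : Subgroup (MulAut L), (MulAut.conj : L →* MulAut L).range ≤ S → TwoGen ↥S) : TwoGen G := by
  obtain ⟨S, hS, ⟨f⟩⟩ := exists_aut T hc e
  exact TwoGen.of_equiv f.symm (h S hS)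

end transport

section psl

variable {F : Type u} [Field F]

/-- diagonal matrices -/
def dg (a b : Fˣ) : GL (Fin 2) F where
  val := !![(a : F), 0; 0, (b : F)]
  inv := !![((a⁻¹ : Fˣ) : F), 0; 0, ((b⁻¹ : Fˣ) : F)]
  val_inv := by
    ext i j
    fin_cases i <;> fin_cases j <;> simp [Matrix.mul_apply, Fin.sum_univ_two]
  inv_val := by
    ext i j
    fin_cases i <;> fin_cases j <;> simp [Matrix.mul_apply, Fin.sum_univ_two]

/-- antidiagonal matrices -/
def ad (a b : Fˣ) : GL (Fin 2) F where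
  val := !![0, (a : F); (b : F), 0]
  inv := !![0, ((b⁻¹ : Fˣ) : F); ((a⁻¹ : Fˣ) : F), 0]
  val_inv := by
    ext i j
    fin_cases i <;> fin_cases j <;> simp [Matrix.mul_apply, Fin.sum_univ_two]
  inv_val := by
    ext i j
    fin_cases i <;> fin_cases j <;> simp [Matrix.mul_apply, Fin.sum_univ_two]

theorem h01 : (0 : Fin 2) ≠ 1 := by decide
theorem h10 : (1 : Fin 2) ≠ 0 := by decide

/-- the two root groups of `SL₂` -/
abbrev xp (t : F) : Matrix.SpecialLinearGroup (Fin 2) F := Matrix.SpecialLinearGroup.transvection h01 t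
abbrev xm (t : F) : Matrix.SpecialLinearGroup (Fin 2) F := Matrix.SpecialLinearGroup.transvection h10 t

theorem coe_xp (t : F) : (xp t : Matrix (Fin 2) (Fin 2) F) = !![1, t; 0, 1] := by
  change (1 : Matrix (Fin 2) (Fin 2) F) + single 0 1 t = _
  ext i j
  fin_cases i <;> fin_cases j <;> simp [Matrix.single]

theorem coe_xm (t : F) : (xm t : Matrix (Fin 2) (Fin 2) F) = !![1, 0; t, 1] := by
  change (1 : Matrix (Fin 2) (Fin 2) F) + single 1 0 t = _
  ext i j
  fin_cases i <;> fin_cases j <;> simp [Matrix.single]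

theorem cj_dg_xp (a b : Fˣ) (t : F) : cj (dg a b) (xp t) = xp (a * t * (b⁻¹ : Fˣ)) := by
  apply Subtype.ext
  rw [coe_cj, coe_xp, coe_xp]
  change !![(a : F), 0; 0, (b : F)] * !![1, t; 0, 1] * !![((a⁻¹ : Fˣ) : F), 0; 0, ((b⁻¹ : Fˣ) : F)] = _
  ext i j
  fin_cases i <;> fin_cases j <;> simp [Matrix.mul_apply, Fin.sum_univ_two]

theorem cj_ad_xp (a b : Fˣ) (t : F) : cj (ad a b) (xp t) = xm (b * t * (a⁻¹ : Fˣ)) := by
  apply Subtype.ext
  rw [coe_cj, coe_xp, coe_xm]
  change !![0, (a : F); (b : F), 0] * !![1, t; 0, 1] * !![0, ((b⁻¹ : Fˣ) : F); ((a⁻¹ : Fˣ) : F), 0] = _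
  ext i j
  fin_cases i <;> fin_cases j <;> simp [Matrix.mul_apply, Fin.sum_univ_two]

theorem dg_comm (a b c d : Fˣ) : dg a b * dg c d = dg c d * dg a b := by
  apply Units.ext
  change !![(a : F), 0; 0, (b : F)] * !![(c : F), 0; 0, (d : F)] = !![(c : F), 0; 0, (d : F)] * !![(a : F), 0; 0, (b : F)]
  ext i j
  fin_cases i <;> fin_cases j <;> simp [Matrix.mul_apply, Fin.sum_univ_two, mul_comm]

theorem ad_dg (a b c d : Fˣ) : ad a b * dg c d = dg d c * ad a b := by
  apply Units.ext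
  change !![0, (a : F); (b : F), 0] * !![(c : F), 0; 0, (d : F)] = !![(d : F), 0; 0, (c : F)] * !![0, (a : F); (b : F), 0]
  ext i j
  fin_cases i <;> fin_cases j <;> simp [Matrix.mul_apply, Fin.sum_univ_two, mul_comm]

/-- field automorphisms normalise `PGL` -/
theorem fld_cj (σ : F ≃+* F) (A : GL (Fin 2) F) :
    (fld σ : MulAut (Matrix.SpecialLinearGroup (Fin 2) F)) * cj A =
      cj (Matrix.GeneralLinearGroup.map (σ : F →+* F) A) * fld σ := by
  apply MulEquiv.ext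
  intro g
  apply Subtype.ext
  rw [MulAut.mul_apply, MulAut.mul_apply, coe_cj]
  have h1 : ∀ g : Matrix.SpecialLinearGroup (Fin 2) F, (fld σ g : Matrix (Fin 2) (Fin 2) F) = (g.1).map σ := fun _ => rfl
  rw [h1, coe_cj, h1]
  have h2 : ((Matrix.GeneralLinearGroup.map (σ : F →+* F) A : GL (Fin 2) F) : Matrix (Fin 2) (Fin 2) F) = A.1.map σ := rfl
  have h3 : (((Matrix.GeneralLinearGroup.map (σ : F →+* F) A)⁻¹ : GL (Fin 2) F) : Matrix (Fin 2) (Fin 2) F) =
      ((A⁻¹ : GL (Fin 2) F) : Matrix (Fin 2) (Fin 2) F).map σ := rfl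
  rw [h2, h3]
  have h4 : ∀ M N : Matrix (Fin 2) (Fin 2) F, (M * N).map σ = M.map σ * N.map σ := fun M N =>
    Matrix.map_mul (f := (σ : F →+* F))
  rw [h4, h4]

theorem fld_dg (σ : F ≃+* F) (a b : Fˣ) :
    Matrix.GeneralLinearGroup.map (σ : F →+* F) (dg a b) = dg (Units.map (σ : F →* F) a) (Units.map (σ : F →* F) b) := by
  apply Units.ext
  change (!![(a : F), 0; 0, (b : F)] : Matrix (Fin 2) (Fin 2) F).map σ = !![σ (a : F), 0; 0, σ (b : F)]
  ext i j
  fin_cases i <;> fin_cases j <;> simp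

/-- the inner automorphisms of `PSL₂` -/
abbrev Inn2 (F : Type u) [Field F] : Subgroup (MulAut (Matrix.ProjectiveSpecialLinearGroup (Fin 2) F)) :=
  (MulAut.conj : Matrix.ProjectiveSpecialLinearGroup (Fin 2) F →* _).range

instance inn2_normal : (Inn2 F).Normal where
  conj_mem := by
    rintro _ ⟨x, rfl⟩ α
    refine ⟨α x, ?_⟩
    apply MulEquiv.ext
    intro y
    change α x * y * (α x)⁻¹ = α (x * α⁻¹ y * x⁻¹)
    rw [map_mul, map_mul, map_inv, MulAut.apply_inv_self]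

theorem lift_conj (α : MulAut (Matrix.SpecialLinearGroup (Fin 2) F)) (g : Matrix.SpecialLinearGroup (Fin 2) F) :
    lift α * MulAut.conj (pr g) * (lift α)⁻¹ = MulAut.conj (pr (α g)) := by
  rw [mul_inv_eq_iff_eq_mul]
  apply MulEquiv.ext
  intro x
  rw [MulAut.mul_apply, MulAut.mul_apply, MulAut.conj_apply, MulAut.conj_apply, map_mul, map_mul, map_inv, lift_pr]

/-- square determinant: inner -/
theorem lift_cj_mem {C : GL (Fin 2) F} {c : Fˣ} (h : Matrix.GeneralLinearGroup.det C = c ^ 2) :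
    lift (cj C) ∈ Inn2 F := by
  have hd : (C : Matrix (Fin 2) (Fin 2) F).det = (c : F) ^ 2 := by
    have := congrArg (Units.val) h
    simpa using this
  obtain ⟨g, hg⟩ : ∃ g : Matrix.SpecialLinearGroup (Fin 2) F,
      (g : Matrix (Fin 2) (Fin 2) F) = ((c⁻¹ : Fˣ) : F) • (C : Matrix (Fin 2) (Fin 2) F) :=
    ⟨⟨((c⁻¹ : Fˣ) : F) • (C : Matrix (Fin 2) (Fin 2) F), by
      rw [det_smul, hd, Fintype.card_fin, ← mul_pow, ← Units.val_mul, inv_mul_cancel, Units.val_one, one_pow]⟩, rfl⟩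
  refine ⟨pr g, ?_⟩
  apply MulEquiv.ext
  intro x
  obtain ⟨x, rfl⟩ := pr_surjective x
  rw [MulAut.conj_apply, lift_pr, ← map_inv, ← map_mul, ← map_mul]
  congr 1
  apply Subtype.ext
  rw [coe_cj, Matrix.SpecialLinearGroup.coe_mul, Matrix.SpecialLinearGroup.coe_mul]
  have h1 : (C : Matrix (Fin 2) (Fin 2) F) = (c : F) • (g : Matrix (Fin 2) (Fin 2) F) := by
    rw [hg, smul_smul, ← Units.val_mul, mul_inv_cancel, Units.val_one, one_smul]
  have h4 : ((g⁻¹ : Matrix.SpecialLinearGroup (Fin 2) F) : Matrix (Fin 2) (Fin 2) F) * (g : Matrix (Fin 2) (Fin 2) F) = 1 := by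
    rw [← Matrix.SpecialLinearGroup.coe_mul, inv_mul_cancel, Matrix.SpecialLinearGroup.coe_one]
  have h5 : (C : Matrix (Fin 2) (Fin 2) F) * ((C⁻¹ : GL (Fin 2) F) : Matrix (Fin 2) (Fin 2) F) = 1 := by
    rw [← Units.val_mul, mul_inv_cancel, Units.val_one]
  -- multiply by `C` on the right
  have h3 : (g : Matrix (Fin 2) (Fin 2) F) * (x : Matrix (Fin 2) (Fin 2) F) *
      ((g⁻¹ : Matrix.SpecialLinearGroup (Fin 2) F) : Matrix (Fin 2) (Fin 2) F) * (C : Matrix (Fin 2) (Fin 2) F) =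
      (C : Matrix (Fin 2) (Fin 2) F) * (x : Matrix (Fin 2) (Fin 2) F) := by
    generalize ((g⁻¹ : Matrix.SpecialLinearGroup (Fin 2) F) : Matrix (Fin 2) (Fin 2) F) = g' at h4
    rw [h1, mul_smul_comm, mul_assoc, h4, mul_one, smul_mul_assoc]
  rw [← h3, mul_assoc _ (C : Matrix (Fin 2) (Fin 2) F), h5, mul_one]

theorem det_dg (a b : Fˣ) : Matrix.GeneralLinearGroup.det (dg a b) = a * b := by
  apply Units.ext
  change (!![(a : F), 0; 0, (b : F)] : Matrix (Fin 2) (Fin 2) F).det = _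
  simp [Matrix.det_fin_two_of]

theorem det_ad (a b : Fˣ) : Matrix.GeneralLinearGroup.det (ad a b) = -(a * b) := by
  apply Units.ext
  change (!![0, (a : F); (b : F), 0] : Matrix (Fin 2) (Fin 2) F).det = _
  simp [Matrix.det_fin_two_of]

/-- the root group in `Aut PSL₂` -/
def X (t : F) : MulAut (Matrix.ProjectiveSpecialLinearGroup (Fin 2) F) := MulAut.conj (pr (xp t))

theorem xp_add (s t : F) : xp (s + t) = xp s * xp t := by
  apply Subtype.ext
  rw [Matrix.SpecialLinearGroup.coe_mul, coe_xp, coe_xp, coe_xp]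
  ext i j
  fin_cases i <;> fin_cases j <;> simp [Matrix.mul_apply, Fin.sum_univ_two, add_comm]

theorem X_add (s t : F) : X (s + t) = X s * X t := by
  unfold X
  rw [xp_add, map_mul, map_mul]

theorem X_zero : X (0 : F) = 1 := by
  have h := X_add (0 : F) 0
  rw [add_zero] at h
  exact mul_left_cancel (a := X (0 : F)) (by rw [mul_one]; exact h.symm)

theorem X_neg (t : F) : X (-t) = (X t)⁻¹ := by
  rw [eq_inv_iff_mul_eq_one, ← X_add, neg_add_cancel, X_zero]

/-- the root group -/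
def XG (F : Type u) [Field F] : Subgroup (MulAut (Matrix.ProjectiveSpecialLinearGroup (Fin 2) F)) where
  carrier := Set.range (X (F := F))
  one_mem' := ⟨0, X_zero⟩
  mul_mem' := by
    rintro _ _ ⟨s, rfl⟩ ⟨t, rfl⟩
    exact ⟨s + t, X_add s t⟩
  inv_mem' := by
    rintro _ ⟨s, rfl⟩
    exact ⟨-s, X_neg s⟩

theorem mem_XG {y : MulAut (Matrix.ProjectiveSpecialLinearGroup (Fin 2) F)} : y ∈ XG F ↔ ∃ t, X t = y := Iff.rfl

theorem h_X (a b : Fˣ) (t : F) : lift (cj (dg a b)) * X t * (lift (cj (dg a b)))⁻¹ = X (a * t * (b⁻¹ : Fˣ)) := by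
  unfold X
  rw [lift_conj, cj_dg_xp]

theorem w_X (a b : Fˣ) (σ : F ≃+* F) (t : F) :
    lift (cj (ad a b) * fld σ) * X t * (lift (cj (ad a b) * fld σ))⁻¹ = MulAut.conj (pr (xm (b * σ t * (a⁻¹ : Fˣ)))) := by
  unfold X
  rw [lift_conj, MulAut.mul_apply, fld_transvection, cj_ad_xp]

end psl

section main

variable {F : Type u} [Field F] [Fintype F]

theorem sum_sq (c : F) : ∃ a b : F, a ^ 2 + b ^ 2 = c := by
  classical
  by_cases h2 : ringChar F = 2
  · obtain ⟨a, ha⟩ := FiniteField.isSquare_of_char_two h2 c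
    exact ⟨a, 0, by rw [ha]; ring⟩
  · obtain ⟨a, b, hab⟩ := FiniteField.exists_root_sum_quadratic (f := (Polynomial.X ^ 2 : Polynomial F))
      (g := Polynomial.X ^ 2 - Polynomial.C c) (Polynomial.degree_X_pow 2)
      (Polynomial.degree_X_pow_sub_C (by decide) _) (FiniteField.odd_card_of_char_ne_two h2)
    refine ⟨a, b, ?_⟩
    simp only [Polynomial.eval_pow, Polynomial.eval_X, Polynomial.eval_sub, Polynomial.eval_C] at hab
    linear_combination hab

/-- an additive subgroup stable under `δ`, where all squares are powers of `δ` -/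
theorem addSubgroup_of_sq {δ : F} (hδ : ∀ t : F, t ≠ 0 → ∃ n : ℕ, δ ^ n = t ^ 2) (S : AddSubgroup F)
    (hS : ∀ t ∈ S, δ * t ∈ S) : S = ⊥ ∨ S = ⊤ := by
  by_cases h : S = ⊥
  · exact Or.inl h
  · right
    obtain ⟨s, hs, hs0⟩ : ∃ s ∈ S, s ≠ 0 := by
      by_contra hcon
      push Not at hcon
      exact h ((AddSubgroup.eq_bot_iff_forall S).2 hcon)
    have h1 : ∀ n : ℕ, δ ^ n * s ∈ S := by
      intro n
      induction n with
      | zero => simpa using hs
      | succ n ih =>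
        have := hS _ ih
        rwa [← mul_assoc, ← pow_succ'] at this
    have h2 : ∀ t : F, t ^ 2 * s ∈ S := by
      intro t
      by_cases ht : t = 0
      · rw [ht]; simp
      · obtain ⟨n, hn⟩ := hδ t ht
        rw [← hn]; exact h1 n
    rw [eq_top_iff]
    intro t _
    obtain ⟨a, b, hab⟩ := sum_sq (t / s)
    have h3 : a ^ 2 * s + b ^ 2 * s = t := by
      rw [← add_mul, hab, div_mul_cancel₀ _ hs0]
    rw [← h3]
    exact S.add_mem (h2 a) (h2 b)

/-- the two elements generate at least `Inn` -/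
theorem key {δ : Fˣ} (hδ : ∀ t : F, t ≠ 0 → ∃ n : ℕ, (δ : F) ^ n = t ^ 2) (hδ1 : δ ≠ 1) (σ : F ≃+* F) (a b : Fˣ)
    (M : Subgroup (MulAut (Matrix.ProjectiveSpecialLinearGroup (Fin 2) F))) (h1 : lift (cj (dg δ 1)) ∈ M)
    (h2 : X 1 * lift (cj (ad a b) * fld σ) ∈ M) : Inn2 F ≤ M := by
  have hδF : (δ : F) ≠ 1 := fun h => hδ1 (Units.ext h)
  -- `w h w⁻¹`
  have hw : lift (cj (ad a b) * fld σ) * lift (cj (dg δ 1)) * (lift (cj (ad a b) * fld σ))⁻¹ =
      lift (cj (dg 1 (Units.map (σ : F →* F) δ))) := by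
    rw [mul_inv_eq_iff_eq_mul, ← map_mul, ← map_mul, mul_assoc, fld_cj, fld_dg, ← mul_assoc, ← map_mul, ad_dg,
      map_mul cj, map_one, mul_assoc]
  have hσ1 : (((Units.map (σ : F →* F) δ)⁻¹ : Fˣ) : F) ≠ 1 := by
    intro h
    have h3 : (Units.map (σ : F →* F) δ)⁻¹ = 1 := Units.ext h
    rw [inv_eq_one] at h3
    have h4 : σ (δ : F) = 1 := congrArg Units.val h3
    exact hδF (σ.injective (by rw [h4, map_one]))
  have hinj : ∀ s t : F, X s = X t → s = t := by
    intro s t h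
    -- `g = x(-t) x(s) = x(s - t)` is central
    have h3 : X (s - t) = 1 := by rw [sub_eq_add_neg, X_add, X_neg, h, mul_inv_cancel]
    have h4 : pr (xp (s - t)) * pr (xm 1) = pr (xm 1) * pr (xp (s - t)) := by
      have := DFunLike.congr_fun h3 (pr (xm 1))
      change pr (xp (s - t)) * pr (xm 1) * (pr (xp (s - t)))⁻¹ = pr (xm 1) at this
      exact mul_inv_eq_iff_eq_mul.1 this
    rw [← map_mul, ← map_mul] at h4
    obtain ⟨c, hc1⟩ := exists_smul_of_pr_eq h4
    rw [Matrix.SpecialLinearGroup.coe_mul, Matrix.SpecialLinearGroup.coe_mul, coe_xp, coe_xm] at hc1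
    have e1 := congrFun (congrFun hc1 1) 0
    have e2 := congrFun (congrFun hc1 0) 0
    simp [Matrix.mul_apply, Fin.sum_univ_two] at e1 e2
    rw [← e1] at e2
    linear_combination -e2
  have key2 := Cfsg.Agent.H136.TwoGen.torus_trick M (XG F) (h := lift (cj (dg δ 1)))
    (w := lift (cj (ad a b) * fld σ)) (u := X 1) h1 h2 ⟨1, rfl⟩ ?_ ?_ ?_ ?_ ?_ ?_ ?_
  · obtain ⟨k1, k2⟩ := key2
    have hp : ∀ t, X t ∈ M := fun t => k1 ⟨t, rfl⟩
    have hm : ∀ t : F, MulAut.conj (pr (xm t)) ∈ M := by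
      intro t
      have h3 := w_X a b σ (σ.symm (((b⁻¹ : Fˣ) : F) * t * a))
      have h4 : (b : F) * σ (σ.symm (((b⁻¹ : Fˣ) : F) * t * a)) * ((a⁻¹ : Fˣ) : F) = t := by
        rw [σ.apply_symm_apply]
        have e1 : (b : F) * ((b⁻¹ : Fˣ) : F) = 1 := by rw [← Units.val_mul, mul_inv_cancel, Units.val_one]
        have e2 : (a : F) * ((a⁻¹ : Fˣ) : F) = 1 := by rw [← Units.val_mul, mul_inv_cancel, Units.val_one]
        linear_combination (t * (a : F) * ((a⁻¹ : Fˣ) : F)) * e1 + t * e2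
      rw [h4] at h3
      rw [← h3]
      exact M.mul_mem (M.mul_mem k2 (hp _)) (M.inv_mem k2)
    rintro _ ⟨x, rfl⟩
    obtain ⟨x, rfl⟩ := pr_surjective x
    refine Cfsg.Agent.LieClassical.SLGen.transvection_induction (fun x => MulAut.conj (pr x) ∈ M) ?_ ?_ x
    · intro i j hij c
      fin_cases i <;> fin_cases j
      · exact absurd rfl hij
      · exact hp c
      · exact hm c
      · exact absurd rfl hij
    · intro A B hA hB
      rw [map_mul, map_mul]
      exact M.mul_mem hA hB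
  · rintro _ ⟨t, rfl⟩
    rw [hw, h_X]
    exact ⟨_, rfl⟩
  · rintro _ ⟨t, rfl⟩
    rw [hw]
    refine ⟨(Units.map (σ : F →* F) δ : Fˣ) * t, ?_⟩
    have h3 := h_X 1 (Units.map (σ : F →* F) δ) ((Units.map (σ : F →* F) δ : Fˣ) * t)
    have h4 : ((1 : Fˣ) : F) * (((Units.map (σ : F →* F) δ : Fˣ) : F) * t) * (((Units.map (σ : F →* F) δ)⁻¹ : Fˣ) : F) = t := by
      have e1 : ((Units.map (σ : F →* F) δ : Fˣ) : F) * (((Units.map (σ : F →* F) δ)⁻¹ : Fˣ) : F) = 1 := by
        rw [← Units.val_mul, mul_inv_cancel, Units.val_one]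
      rw [Units.val_one]
      linear_combination t * e1
    rw [h4] at h3
    rw [← h3]
    group
  · intro Y hY hYh
    let S : AddSubgroup F :=
      { carrier := {t | X t ∈ Y}
        zero_mem' := by change X 0 ∈ Y; rw [X_zero]; exact Y.one_mem
        add_mem' := by
          intro s t hs ht
          change X (s + t) ∈ Y
          rw [X_add]
          exact Y.mul_mem hs ht
        neg_mem' := by
          intro s hs
          change X (-s) ∈ Y
          rw [X_neg]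
          exact Y.inv_mem hs }
    rcases addSubgroup_of_sq hδ S (by
      intro t ht
      have h3 := hYh _ (show X t ∈ Y from ht)
      rw [h_X, inv_one, Units.val_one, mul_one] at h3
      exact h3) with h | h
    · left
      rw [eq_bot_iff]
      intro y hy
      obtain ⟨t, rfl⟩ := hY hy
      have h3 : t ∈ S := hy
      rw [h, AddSubgroup.mem_bot] at h3
      rw [h3, X_zero, mem_bot]
    · right
      refine le_antisymm hY ?_
      rintro _ ⟨t, rfl⟩
      have h3 : t ∈ S := by rw [h]; trivial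
      exact h3
  · refine ⟨X 1, ⟨1, rfl⟩, fun h => ?_⟩
    rw [← mul_inv_eq_iff_eq_mul, h_X] at h
    have := hinj _ _ h
    rw [inv_one, Units.val_one, mul_one, mul_one] at this
    exact hδF this
  · rintro _ ⟨t, rfl⟩
    rw [h_X]
    exact ⟨_, rfl⟩
  · rw [hw, ← map_mul, ← map_mul, ← map_mul, ← map_mul, dg_comm]
  · intro h
    rw [hw, ← mul_inv_eq_iff_eq_mul, h_X] at h
    have := hinj _ _ h
    rw [Units.val_one, one_mul, one_mul] at this
    exact hσ1 this

/-- **every pair of `Aut PSL₂(F)` (the first one in `PGL₂`) lifts** -/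
theorem lift_pair (hF : 4 ≤ Fintype.card F) (A B : GL (Fin 2) F) (σ : F ≃+* F) :
    Lift (Inn2 F) (lift (cj A)) (lift (cj B * fld σ)) := by
  obtain ⟨ζ, hζ⟩ := IsCyclic.exists_generator (α := Fˣ)
  have hcard : 3 ≤ orderOf ζ := by
    have h1 : orderOf ζ = Nat.card Fˣ := orderOf_eq_card_of_forall_mem_zpowers hζ
    have h2 := Nat.card_units F
    rw [Nat.card_eq_fintype_card (α := F)] at h2
    omega
  -- the element `δ`
  obtain ⟨δ, hδ, hδ1, c, hc⟩ : ∃ δ : Fˣ, (∀ t : F, t ≠ 0 → ∃ n : ℕ, (δ : F) ^ n = t ^ 2) ∧ δ ≠ 1 ∧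
      ∃ c : Fˣ, (Matrix.GeneralLinearGroup.det A)⁻¹ * δ = c ^ 2 := by
    have hζ2 : ζ ^ 2 ≠ 1 := fun h => by
      have := Nat.le_of_dvd (by norm_num) (orderOf_dvd_of_pow_eq_one h)
      omega
    obtain ⟨k, hk⟩ := mem_zpowers_iff.1 (hζ (Matrix.GeneralLinearGroup.det A))
    have hnat : ∀ u : Fˣ, ∃ n : ℕ, ζ ^ n = u := by
      intro u
      have h1 := hζ u
      rw [← mem_powers_iff_mem_zpowers] at h1
      exact Submonoid.mem_powers_iff _ _ |>.1 h1
    rcases Int.even_or_odd' k with ⟨m, hm | hm⟩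
    · refine ⟨ζ ^ 2, fun t ht => ?_, hζ2, ζ ^ (1 - m), ?_⟩
      · obtain ⟨n, hn⟩ := hnat (Units.mk0 t ht)
        refine ⟨n, ?_⟩
        have h1 : (ζ ^ 2) ^ n = (Units.mk0 t ht) ^ 2 := by rw [← hn, ← pow_mul, ← pow_mul, mul_comm]
        have h2 := congrArg Units.val h1
        simpa using h2
      · rw [← hk, hm, ← _root_.zpow_natCast ζ 2, ← _root_.zpow_neg, ← _root_.zpow_add, ← _root_.zpow_natCast, ← _root_.zpow_mul]
        congr 1
        push_cast
        ring
    · refine ⟨ζ, fun t ht => ?_, fun h => ?_, ζ ^ (-m), ?_⟩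
      · obtain ⟨n, hn⟩ := hnat ((Units.mk0 t ht) ^ 2)
        refine ⟨n, ?_⟩
        have h2 := congrArg Units.val hn
        simpa using h2
      · rw [h, orderOf_one] at hcard
        omega
      · have : (Matrix.GeneralLinearGroup.det A)⁻¹ * ζ = ζ ^ (-k) * ζ ^ (1 : ℤ) := by
          rw [_root_.zpow_neg, hk, zpow_one]
        rw [this, hm, ← _root_.zpow_add, ← _root_.zpow_natCast, ← _root_.zpow_mul]
        congr 1
        push_cast
        ring
  set y := lift (cj B * fld σ) with hy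
  set w := lift (cj (ad (Matrix.GeneralLinearGroup.det B) (-1)) * fld σ) with hw
  have hX1 : X (1 : F) ∈ Inn2 F := ⟨_, rfl⟩
  refine ⟨(lift (cj A))⁻¹ * lift (cj (dg δ 1)), ?_, y⁻¹ * (X 1 * w), ?_, ?_⟩
  · rw [← map_inv, ← map_inv, ← map_mul, ← map_mul]
    exact lift_cj_mem (c := c) (by rw [map_mul, map_inv, det_dg, mul_one, hc])
  · have h1 : X 1 * w * y⁻¹ ∈ Inn2 F := by
      have h2 : w * y⁻¹ = lift (cj (ad (Matrix.GeneralLinearGroup.det B) (-1) * B⁻¹)) := by
        rw [hw, hy, mul_inv_eq_iff_eq_mul, ← map_mul, map_mul cj, mul_assoc, ← mul_assoc (cj B⁻¹), ← map_mul cj,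
          inv_mul_cancel, map_one, one_mul]
      rw [mul_assoc, h2]
      refine mul_mem hX1 (lift_cj_mem (c := 1) ?_)
      rw [map_mul, det_ad, map_inv]
      simp
    have h3 := (inn2_normal (F := F)).conj_mem _ h1 y⁻¹
    rw [inv_inv] at h3
    have h4 : y⁻¹ * (X 1 * w * y⁻¹) * y = y⁻¹ * (X 1 * w) := by group
    rwa [h4] at h3
  · rw [mul_inv_cancel_left, mul_inv_cancel_left]
    exact key hδ hδ1 σ (Matrix.GeneralLinearGroup.det B) (-1) _ (subset_closure (Or.inl rfl)) (subset_closure (Or.inr rfl))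

/-- **every subgroup of `Aut PSL₂(F)` containing `Inn` is 2-generated** -/
theorem twoGen_sub (hF : 4 ≤ Fintype.card F) (S : Subgroup (MulAut (Matrix.ProjectiveSpecialLinearGroup (Fin 2) F)))
    (hS : Inn2 F ≤ S) : TwoGen ↥S := by
  classical
  obtain ⟨p, hp⟩ := CharP.exists F
  have : Fact p.Prime := ⟨CharP.char_is_prime F p⟩
  -- the set of pairs
  let W : Subgroup (MulAut (Matrix.ProjectiveSpecialLinearGroup (Fin 2) F) × (F ≃+* F)) :=
    { carrier := {x | ∃ A : GL (Fin 2) F, x.1 = lift (cj A * fld x.2)}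
      one_mem' := ⟨1, by simp⟩
      mul_mem' := by
        rintro ⟨g, σ⟩ ⟨g', τ⟩ ⟨A, hA⟩ ⟨B, hB⟩
        refine ⟨A * Matrix.GeneralLinearGroup.map (σ : F →+* F) B, ?_⟩
        change g = _ at hA
        change g' = _ at hB
        change g * g' = lift (cj (A * Matrix.GeneralLinearGroup.map (σ : F →+* F) B) * fld (σ * τ))
        rw [hA, hB, ← map_mul, map_mul cj, map_mul fld, mul_assoc, mul_assoc, ← mul_assoc (fld σ), fld_cj, mul_assoc]
      inv_mem' := by
        rintro ⟨g, σ⟩ ⟨A, hA⟩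
        refine ⟨Matrix.GeneralLinearGroup.map ((σ⁻¹ : F ≃+* F) : F →+* F) A⁻¹, ?_⟩
        change g = _ at hA
        change g⁻¹ = lift (cj (Matrix.GeneralLinearGroup.map ((σ⁻¹ : F ≃+* F) : F →+* F) A⁻¹) * fld σ⁻¹)
        rw [← fld_cj, hA, ← map_inv, _root_.mul_inv_rev, ← map_inv cj, ← map_inv fld] }
  have hW : ∀ x, x ∈ W ↔ ∃ A : GL (Fin 2) F, x.1 = lift (cj A * fld x.2) := fun _ => Iff.rfl
  have hWall : ∀ g, ∃ σ, (g, σ) ∈ W := by
    intro g
    obtain ⟨A, σ, h⟩ := surj_two p g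
    exact ⟨σ, A, h⟩
  -- the group of field automorphisms
  let FA : Subgroup (F ≃+* F) := (W ⊓ S.comap (MonoidHom.fst _ _)).map (MonoidHom.snd _ _)
  have hFA : ∀ σ, σ ∈ FA ↔ ∃ g ∈ S, (g, σ) ∈ W := by
    intro σ
    constructor
    · rintro ⟨⟨g, τ⟩, ⟨h1, h2⟩, h3⟩
      obtain rfl : τ = σ := h3
      exact ⟨g, h2, h1⟩
    · rintro ⟨g, h1, h2⟩
      exact ⟨(g, σ), ⟨h2, h1⟩, rfl⟩
  have hcyc : IsCyclic (F ≃+* F) := Cfsg.Agent.LieRecognition.FieldSemilinear.isCyclic_ringAut F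
  obtain ⟨⟨σ, hσ⟩, hgen⟩ := IsCyclic.exists_generator (α := ↥FA)
  obtain ⟨y, hyS, hyW⟩ := (hFA σ).1 hσ
  obtain ⟨B, hB⟩ := (hW _).1 hyW
  change y = lift (cj B * fld σ) at hB
  -- the diagonal part
  obtain ⟨A, hAS, hA⟩ : ∃ A : GL (Fin 2) F, lift (cj A) ∈ S ∧ ∀ C : GL (Fin 2) F, lift (cj C) ∈ S →
      (∃ c : Fˣ, Matrix.GeneralLinearGroup.det C = c ^ 2) ∨
        ∃ c : Fˣ, Matrix.GeneralLinearGroup.det (C * A⁻¹) = c ^ 2 := by
    by_cases h : ∃ A : GL (Fin 2) F, lift (cj A) ∈ S ∧ ¬ ∃ c : Fˣ, Matrix.GeneralLinearGroup.det A = c ^ 2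
    · obtain ⟨A, hA, hA'⟩ := h
      refine ⟨A, hA, fun C _ => ?_⟩
      by_cases hC : ∃ c : Fˣ, Matrix.GeneralLinearGroup.det C = c ^ 2
      · exact Or.inl hC
      · right
        obtain ⟨ζ, hζ⟩ := IsCyclic.exists_generator (α := Fˣ)
        obtain ⟨i, hi⟩ := mem_zpowers_iff.1 (hζ (Matrix.GeneralLinearGroup.det A))
        obtain ⟨j, hj⟩ := mem_zpowers_iff.1 (hζ (Matrix.GeneralLinearGroup.det C))
        have hodd : ∀ (D : GL (Fin 2) F) (k : ℤ), ζ ^ k = Matrix.GeneralLinearGroup.det D →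
            (¬ ∃ c : Fˣ, Matrix.GeneralLinearGroup.det D = c ^ 2) → ∃ m, k = 2 * m + 1 := by
          intro D k hk hD
          rcases Int.even_or_odd' k with ⟨m, hm | hm⟩
          · exfalso
            apply hD
            refine ⟨ζ ^ m, ?_⟩
            rw [← hk, hm, ← _root_.zpow_natCast, ← _root_.zpow_mul]
            congr 1
            push_cast
            ring
          · exact ⟨m, hm⟩
        obtain ⟨m, hm⟩ := hodd A i hi hA'
        obtain ⟨n, hn⟩ := hodd C j hj hC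
        refine ⟨ζ ^ (n - m), ?_⟩
        rw [map_mul, map_inv, ← hi, ← hj, ← _root_.zpow_neg, ← _root_.zpow_add, ← _root_.zpow_natCast, ← _root_.zpow_mul]
        congr 1
        rw [hm, hn]
        push_cast
        ring
    · push Not at h
      exact ⟨1, by rw [map_one, map_one]; exact S.one_mem, fun C hC => Or.inl (h C hC)⟩
  refine twoGen_of_lift' hS hAS hyS ?_ (hB ▸ lift_pair hF A B σ)
  -- generation
  intro g hg
  obtain ⟨τ, hτ⟩ := hWall g
  have hτF : τ ∈ FA := (hFA τ).2 ⟨g, hg, hτ⟩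
  obtain ⟨k, hk⟩ := mem_zpowers_iff.1 (hgen ⟨τ, hτF⟩)
  have hk' : σ ^ k = τ := by
    have := congrArg Subtype.val hk
    simpa using this
  have h1 : (g * (y ^ k)⁻¹, (1 : F ≃+* F)) ∈ W := by
    have h2 := W.mul_mem hτ (W.inv_mem (W.zpow_mem hyW k))
    have h3 : ((g, τ) * ((y, σ) ^ k)⁻¹ : MulAut (Matrix.ProjectiveSpecialLinearGroup (Fin 2) F) × (F ≃+* F)) =
        (g * (y ^ k)⁻¹, 1) := by
      rw [Prod.pow_mk, Prod.inv_mk, Prod.mk_mul_mk, hk', mul_inv_cancel]
    rwa [h3] at h2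
  obtain ⟨C, hC⟩ := (hW _).1 h1
  change g * (y ^ k)⁻¹ = lift (cj C * fld 1) at hC
  rw [map_one fld, mul_one] at hC
  have hCS : lift (cj C) ∈ S := by
    rw [← hC]
    exact S.mul_mem hg (S.inv_mem (S.zpow_mem hyS k))
  have hx : lift (cj A) ∈ closure ({lift (cj A), y} : Set _) ⊔ Inn2 F := mem_sup_left (subset_closure (by simp))
  have hy : y ∈ closure ({lift (cj A), y} : Set _) ⊔ Inn2 F := mem_sup_left (subset_closure (by simp))
  have hCm : lift (cj C) ∈ closure ({lift (cj A), y} : Set _) ⊔ Inn2 F := by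
    rcases hA C hCS with ⟨c, hc⟩ | ⟨c, hc⟩
    · exact mem_sup_right (lift_cj_mem hc)
    · have h2 := lift_cj_mem hc
      have h3 : lift (cj C) = lift (cj (C * A⁻¹)) * lift (cj A) := by
        rw [← map_mul, ← map_mul, inv_mul_cancel_right]
      rw [h3]
      exact mul_mem (mem_sup_right h2) hx
  have hg2 : g = lift (cj C) * y ^ k := by rw [← hC, inv_mul_cancel_right]
  rw [hg2]
  exact mul_mem hCm (zpow_mem hy k)

end main

/-- **the field `ASRows.psl2`** -/
theorem psl2_row (G : Type u) (Ω : Type v) [Group G] [MulAction G Ω] (T : Subgroup G)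
    (A : Cfsg.Agent.H384.TwoTrans.AS G Ω T)
    (F : Type) [Field F] [Fintype F] (hF : 4 ≤ Fintype.card F)
    (e : Nonempty (↥T ≃* Matrix.ProjectiveSpecialLinearGroup (Fin 2) F)) : TwoGen G := by
  obtain ⟨e⟩ := e
  have := A.normal
  exact twoGen_of_aut T A.cent e fun S hS => twoGen_sub hF S hS

end Cfsg.Agent.H791.Gen
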